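import Mathlib

/-!
# S5917 (`L₃(4)` in `E₈(2)`), (D8): the cosets of `E` in `E : Q₈` (helper161)

`s1`, `s2` commute, have order 3, `s2 ∉ ⟨s1⟩`; `i s1 i⁻¹ = s2`, `i s2 i⁻¹ = s1⁻¹`, `j s1 j⁻¹ = s1 s2`, `j s2 j⁻¹ = s1 s2⁻¹`.
* `qq i j : Fin 8 → S` : the eight elements; `qq_inj` : they are distinct modulo the centralizer of `s1`;
* `exists_qq` : if `|N(E)| = 72`, every element of `N(E)` is in some `qq k * E`.
-/

set_option autoImplicit false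
set_option linter.unusedSectionVars false

namespace Cfsg.Agent.H161.L34

open Subgroup

variable {S : Type*} [Group S]

/-- the eight elements -/
def qq (i j : S) : Fin 8 → S := ![1, i * i, i, i * (i * i), j, j * (i * i), i * j, i * (j * (i * i))]

theorem map_qq {T : Type*} [Group T] (φ : S →* T) (i j : S) (k : Fin 8) : φ (qq i j k) = qq (φ i) (φ j) k := by
  fin_cases k <;> simp [qq]

/-- the exponents -/
def vv : Fin 8 → ℤ × ℤ := ![(1, 0), (-1, 0), (0, 1), (0, -1), (1, 1), (-1, -1), (-1, 1), (1, -1)]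

theorem vv_inj : ∀ k l : Fin 8, (3 : ℤ) ∣ (vv k).1 - (vv l).1 → (3 : ℤ) ∣ (vv k).2 - (vv l).2 → k = l := by decide

variable {s1 s2 i j : S}

section
variable (hc : s1 * s2 = s2 * s1) (hi1 : i * s1 * i⁻¹ = s2) (hi2 : i * s2 * i⁻¹ = s1⁻¹) (hj1 : j * s1 * j⁻¹ = s1 * s2)
  (hj2 : j * s2 * j⁻¹ = s1 * s2⁻¹)

include hc

theorem comm_z (a b : ℤ) : s1 ^ a * s2 ^ b = s2 ^ b * s1 ^ a :=
  ((show Commute s1 s2 from hc).zpow_zpow a b).eq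

include hi1 hi2

theorem conj_i (a b : ℤ) : i * (s1 ^ a * s2 ^ b) * i⁻¹ = s1 ^ (-b) * s2 ^ a := by
  rw [← conj_mul, ← conj_zpow, ← conj_zpow, hi1, hi2, inv_zpow, ← zpow_neg, comm_z hc]

omit hi1 hi2
include hj1 hj2

theorem conj_j (a b : ℤ) : j * (s1 ^ a * s2 ^ b) * j⁻¹ = s1 ^ (a + b) * s2 ^ (a - b) := by
  have h1 : Commute s1 s2 := hc
  rw [← conj_mul, ← conj_zpow, ← conj_zpow, hj1, hj2, h1.mul_zpow, h1.inv_right.mul_zpow, inv_zpow, ← zpow_neg, zpow_add,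
    sub_eq_add_neg, zpow_add]
  have h2 : Commute (s2 ^ a) (s1 ^ b) := (h1.symm.zpow_zpow a b)
  calc s1 ^ a * s2 ^ a * (s1 ^ b * s2 ^ (-b)) = s1 ^ a * (s2 ^ a * s1 ^ b) * s2 ^ (-b) := by group
    _ = s1 ^ a * (s1 ^ b * s2 ^ a) * s2 ^ (-b) := by rw [h2.eq]
    _ = _ := by group

include hi1 hi2

/-- the images of `s1` -/
theorem conj_qq (k : Fin 8) : qq i j k * s1 * (qq i j k)⁻¹ = s1 ^ (vv k).1 * s2 ^ (vv k).2 := by
  have hI := conj_i hc hi1 hi2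
  have hJ := conj_j hc hj1 hj2
  have e0 : s1 = s1 ^ (1 : ℤ) * s2 ^ (0 : ℤ) := by rw [zpow_one, zpow_zero, mul_one]
  have e1 : i * s1 * i⁻¹ = s1 ^ (0 : ℤ) * s2 ^ (1 : ℤ) := by rw [hi1, zpow_one, zpow_zero, one_mul]
  have e2 : i * i * s1 * (i * i)⁻¹ = s1 ^ (-1 : ℤ) * s2 ^ (0 : ℤ) := by
    calc i * i * s1 * (i * i)⁻¹ = i * (i * s1 * i⁻¹) * i⁻¹ := by group
      _ = _ := by rw [e1, hI]
  have e3 : j * s1 * j⁻¹ = s1 ^ (1 : ℤ) * s2 ^ (1 : ℤ) := by rw [hj1, zpow_one, zpow_one]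
  have e4 : j * (i * i) * s1 * (j * (i * i))⁻¹ = s1 ^ (-1 : ℤ) * s2 ^ (-1 : ℤ) := by
    calc j * (i * i) * s1 * (j * (i * i))⁻¹ = j * (i * i * s1 * (i * i)⁻¹) * j⁻¹ := by group
      _ = _ := by rw [e2, hJ]; rfl
  fin_cases k
  · show 1 * s1 * 1⁻¹ = s1 ^ (1 : ℤ) * s2 ^ (0 : ℤ)
    rw [← e0]; group
  · show i * i * s1 * (i * i)⁻¹ = s1 ^ (-1 : ℤ) * s2 ^ (0 : ℤ)
    exact e2
  · show i * s1 * i⁻¹ = s1 ^ (0 : ℤ) * s2 ^ (1 : ℤ)
    exact e1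
  · show i * (i * i) * s1 * (i * (i * i))⁻¹ = s1 ^ (0 : ℤ) * s2 ^ (-1 : ℤ)
    calc i * (i * i) * s1 * (i * (i * i))⁻¹ = i * (i * i * s1 * (i * i)⁻¹) * i⁻¹ := by group
      _ = _ := by rw [e2, hI]; rfl
  · show j * s1 * j⁻¹ = s1 ^ (1 : ℤ) * s2 ^ (1 : ℤ)
    exact e3
  · show j * (i * i) * s1 * (j * (i * i))⁻¹ = s1 ^ (-1 : ℤ) * s2 ^ (-1 : ℤ)
    exact e4
  · show i * j * s1 * (i * j)⁻¹ = s1 ^ (-1 : ℤ) * s2 ^ (1 : ℤ)
    calc i * j * s1 * (i * j)⁻¹ = i * (j * s1 * j⁻¹) * i⁻¹ := by group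
      _ = _ := by rw [e3, hI]
  · show i * (j * (i * i)) * s1 * (i * (j * (i * i)))⁻¹ = s1 ^ (1 : ℤ) * s2 ^ (-1 : ℤ)
    calc i * (j * (i * i)) * s1 * (i * (j * (i * i)))⁻¹ = i * (j * (i * i) * s1 * (j * (i * i))⁻¹) * i⁻¹ := by group
      _ = _ := by rw [e4, hI]; rfl

variable (h3 : s1 ^ 3 = 1) (h3' : s2 ^ 3 = 1) (h1 : s1 ≠ 1) (h2 : s2 ∉ zpowers s1)

omit hc hi1 hi2 hj1 hj2
include h3 h3' h1 h2

theorem indep {a b : ℤ} (h : s1 ^ a * s2 ^ b = 1) : (3 : ℤ) ∣ a ∧ (3 : ℤ) ∣ b := by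
  have o1 : orderOf s1 = 3 := orderOf_eq_prime h3 h1
  have hb : (3 : ℤ) ∣ b := by
    by_contra hb
    apply h2
    have h4 : s2 ^ b ∈ zpowers s1 := by
      have : s2 ^ b = (s1 ^ a)⁻¹ := eq_inv_of_mul_eq_one_right h
      rw [this]
      exact inv_mem (zpow_mem (mem_zpowers s1) a)
    have h5 : IsCoprime (3 : ℤ) b := (Int.prime_three.coprime_iff_not_dvd).2 hb
    obtain ⟨u, v, huv⟩ := h5
    have h6 : s2 = (s2 ^ b) ^ v := by
      rw [← zpow_mul]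
      have h7 : s2 ^ (u * 3 + v * b) = s2 := by rw [huv, zpow_one]
      rw [zpow_add, mul_comm u 3, zpow_mul] at h7
      have h8 : s2 ^ (3 : ℤ) = 1 := by exact_mod_cast h3'
      rw [h8, one_zpow, one_mul, mul_comm v b] at h7
      exact h7.symm
    rw [h6]
    exact zpow_mem h4 v
  refine ⟨?_, hb⟩
  obtain ⟨c, rfl⟩ := hb
  have h8 : s2 ^ (3 : ℤ) = 1 := by exact_mod_cast h3'
  rw [zpow_mul, h8, one_zpow, mul_one] at h
  have h9 := orderOf_dvd_iff_zpow_eq_one.2 h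
  rw [o1] at h9
  exact_mod_cast h9

include hc hi1 hi2 hj1 hj2

/-- the eight elements are distinct modulo the centralizer of `s1` -/
theorem qq_inj {k l : Fin 8} (h : ((qq i j k)⁻¹ * qq i j l) * s1 = s1 * ((qq i j k)⁻¹ * qq i j l)) : k = l := by
  have h4 : qq i j k * s1 * (qq i j k)⁻¹ = qq i j l * s1 * (qq i j l)⁻¹ := by
    have h5 : qq i j l * s1 = qq i j k * s1 * ((qq i j k)⁻¹ * qq i j l) := by
      rw [mul_assoc (qq i j k) s1, ← h]; group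
    rw [h5]; group
  rw [conj_qq hc hi1 hi2 hj1 hj2, conj_qq hc hi1 hi2 hj1 hj2] at h4
  have h5 : s1 ^ ((vv k).1 - (vv l).1) * s2 ^ ((vv k).2 - (vv l).2) = 1 := by
    have h6 := comm_z (s1 := s1) (s2 := s2) hc
    rw [sub_eq_add_neg, sub_eq_add_neg, zpow_add, zpow_add]
    calc s1 ^ (vv k).1 * s1 ^ (-(vv l).1) * (s2 ^ (vv k).2 * s2 ^ (-(vv l).2))
        = s1 ^ (vv k).1 * (s1 ^ (-(vv l).1) * s2 ^ (vv k).2) * s2 ^ (-(vv l).2) := by group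
      _ = s1 ^ (vv k).1 * (s2 ^ (vv k).2 * s1 ^ (-(vv l).1)) * s2 ^ (-(vv l).2) := by rw [h6]
      _ = (s1 ^ (vv k).1 * s2 ^ (vv k).2) * (s1 ^ (-(vv l).1) * s2 ^ (-(vv l).2)) := by group
      _ = (s1 ^ (vv l).1 * s2 ^ (vv l).2) * (s2 ^ (-(vv l).2) * s1 ^ (-(vv l).1)) := by
        rw [h4, h6 (-(vv l).1) (-(vv l).2)]
      _ = 1 := by group
  obtain ⟨h6, h7⟩ := indep h3 h3' h1 h2 h5
  exact vv_inj k l h6 h7

end

/-- **the cosets** -/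
theorem exists_qq [Finite S] {E : Subgroup S} (hc : s1 * s2 = s2 * s1) (hi1 : i * s1 * i⁻¹ = s2) (hi2 : i * s2 * i⁻¹ = s1⁻¹)
    (hj1 : j * s1 * j⁻¹ = s1 * s2) (hj2 : j * s2 * j⁻¹ = s1 * s2⁻¹) (h3 : s1 ^ 3 = 1) (h3' : s2 ^ 3 = 1) (h1 : s1 ≠ 1)
    (h2 : s2 ∉ zpowers s1) (h9 : Nat.card E = 9) (hs1 : s1 ∈ E) (hab : ∀ x ∈ E, ∀ y ∈ E, x * y = y * x)
    (hi : i ∈ normalizer (E : Set S)) (hj : j ∈ normalizer (E : Set S)) (h72 : Nat.card (normalizer (E : Set S)) = 72)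
    {g : S} (hg : g ∈ normalizer (E : Set S)) : ∃ k, (qq i j k)⁻¹ * g ∈ E := by
  classical
  set N := normalizer (E : Set S) with hN
  have hq : ∀ k, qq i j k ∈ N := by
    intro k
    fin_cases k
    · exact one_mem N
    · exact mul_mem hi hi
    · exact hi
    · exact mul_mem hi (mul_mem hi hi)
    · exact hj
    · exact mul_mem hj (mul_mem hi hi)
    · exact mul_mem hi hj
    · exact mul_mem hi (mul_mem hj (mul_mem hi hi))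
  have hEN : E ≤ N := Subgroup.le_normalizer
  let F : Fin 8 × E → N := fun p => ⟨qq i j p.1 * p.2.1, mul_mem (hq p.1) (hEN p.2.2)⟩
  have hF : Function.Injective F := by
    rintro ⟨k, x⟩ ⟨l, y⟩ h
    have h4 : qq i j k * x.1 = qq i j l * y.1 := congrArg Subtype.val h
    have h5 : (qq i j k)⁻¹ * qq i j l = x.1 * (y.1)⁻¹ := by
      rw [eq_mul_inv_iff_mul_eq, mul_assoc, ← h4]; group
    have h6 : (qq i j k)⁻¹ * qq i j l ∈ E := by rw [h5]; exact mul_mem x.2 (inv_mem y.2)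
    have h7 : k = l := qq_inj hc hi1 hi2 hj1 hj2 h3 h3' h1 h2 (hab _ h6 _ hs1)
    subst h7
    have h8 := mul_left_cancel h4
    rw [Prod.mk.injEq]
    exact ⟨rfl, Subtype.ext h8⟩
  have hcard : Nat.card (Fin 8 × E) = Nat.card N := by
    rw [Nat.card_prod, h9, h72, Nat.card_eq_fintype_card, Fintype.card_fin]
  have hb : Function.Bijective F := (Nat.bijective_iff_injective_and_card F).2 ⟨hF, hcard⟩
  obtain ⟨⟨k, x⟩, h⟩ := hb.2 ⟨g, hg⟩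
  refine ⟨k, ?_⟩
  have h4 : qq i j k * x.1 = g := congrArg Subtype.val h
  rw [← h4, inv_mul_cancel_left]
  exact x.2

end Cfsg.Agent.H161.L34
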